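import Groth.Agent.FrobSchLib.Basic
import Groth.Agent.CurvQuotLib.Field
import Groth.Agent.NormHomLib.Normal
import Groth.Agent.S0416

/-!
# A universal homeomorphism onto a normal scheme divides a power of the Frobenius
-/

set_option autoImplicit false
set_option backward.isDefEq.respectTransparency false
set_option backward.isDefEq.respectTransparency.types false
set_option linter.style.haveILetI false

universe u

open CategoryTheory CategoryTheory.Limits AlgebraicGeometry TopologicalSpace Opposite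

noncomputable section

namespace Groth.Agent.FrobFactLib

variable (p : ℕ) [hp : Fact p.Prime]

/-- The power of the absolute Frobenius, composed on the right. -/
def frobN (X : Scheme.{u}) [FrobSch.IsCharP X p] (n : ℕ) : X ⟶ X :=
  (fun g : X ⟶ X => g ≫ FrobSch.frob X p)^[n] (𝟙 X)

theorem frobN_succ (X : Scheme.{u}) [FrobSch.IsCharP X p] (n : ℕ) :
    frobN p X (n + 1) = frobN p X n ≫ FrobSch.frob X p :=
  Function.iterate_succ_apply' _ _ _

theorem frobN_apply {X : Scheme.{u}} [FrobSch.IsCharP X p] (n : ℕ) (x : X) : frobN p X n x = x := by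
  induction n with
  | zero => rfl
  | succ n ih => rw [frobN_succ, Scheme.Hom.comp_apply, ih, FrobSch.frob_apply]

theorem frobN_appLE {X : Scheme.{u}} [FrobSch.IsCharP X p] (n : ℕ) (W : X.Opens) (e : W ≤ frobN p X n ⁻¹ᵁ W)
    (s : Γ(X, W)) : (frobN p X n).appLE W W e s = s ^ p ^ n := by
  induction n generalizing s with
  | zero =>
    have key : ∀ (h : X ⟶ X) (_ : h = 𝟙 X) (e : W ≤ h ⁻¹ᵁ W), h.appLE W W e s = s := by
      rintro h rfl e
      simp [Scheme.Hom.appLE]
      erw [X.presheaf.map_id]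
      rfl
    rw [pow_zero, pow_one]
    exact key _ rfl e
  | succ n ih =>
    have e' : W ≤ frobN p X n ⁻¹ᵁ W := fun x hx => show frobN p X n x ∈ W by rwa [frobN_apply]
    have key : ∀ (h : X ⟶ X) (_ : h = frobN p X n ≫ FrobSch.frob X p) (e : W ≤ h ⁻¹ᵁ W),
        h.appLE W W e s = (frobN p X n).appLE W W e' ((FrobSch.frob X p).app W s) := by
      rintro h rfl e
      rw [Scheme.Hom.comp_appLE]
      rfl
    rw [key _ (frobN_succ p X n), ih, FrobSch.frob_app, ← pow_mul, pow_succ']

theorem frobN_comp {X Y : Scheme.{u}} [FrobSch.IsCharP X p] [FrobSch.IsCharP Y p] (f : X ⟶ Y) (n : ℕ) :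
    frobN p X n ≫ f = f ≫ frobN p Y n := by
  induction n with
  | zero => simp [frobN]
  | succ n ih => rw [frobN_succ, frobN_succ, Category.assoc, FrobSch.frob_comp, ← Category.assoc, ih, Category.assoc]

theorem isUnivHomeo_frob (X : Scheme.{u}) [FrobSch.IsCharP X p] : FlatMor.IsUnivHomeo (FrobSch.frob X p) := by
  haveI := FrobSchLib.isIntegralHom_frob (S := X) p
  haveI := FrobSchLib.universallyInjective_frob (S := X) p
  haveI := FrobSchLib.surjective_frob (S := X) p
  exact UnivHomeo.of_isIntegralHom _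

theorem isUnivHomeo_frobN (X : Scheme.{u}) [FrobSch.IsCharP X p] (n : ℕ) : FlatMor.IsUnivHomeo (frobN p X n) := by
  induction n with
  | zero =>
    haveI : IsIntegralHom (𝟙 X) := inferInstance
    exact UnivHomeo.of_isIntegralHom (𝟙 X)
  | succ n ih =>
    rw [frobN_succ]
    haveI := UnivHomeo.isIntegralHom ih
    haveI := UnivHomeo.universallyInjective ih
    haveI := UnivHomeo.surjective ih
    haveI : UniversallyInjective (frobN p X n ≫ FrobSch.frob X p) :=
      MorphismProperty.comp_mem _ _ _ ‹_› (FrobSchLib.universallyInjective_frob (S := X) p)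
    haveI := FrobSchLib.isIntegralHom_frob (S := X) p
    haveI := FrobSchLib.universallyInjective_frob (S := X) p
    haveI := FrobSchLib.surjective_frob (S := X) p
    exact UnivHomeo.of_isIntegralHom _

variable {X Y : Scheme.{u}}

theorem ext_of_appLE {f g : X ⟶ Y} (hb : ∀ x, f x = g x)
    (h : ∀ (U : Y.Opens) (T : X.Opens) (e : T ≤ f ⁻¹ᵁ U) (e' : T ≤ g ⁻¹ᵁ U), f.appLE U T e = g.appLE U T e') :
    f = g := by
  have hb' : f.base = g.base := by ext x; exact hb x
  refine Scheme.Hom.ext hb' fun U => ?_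
  have := h U (g ⁻¹ᵁ U) (fun x hx => show f x ∈ U by rw [hb]; exact hx) le_rfl
  rw [Scheme.Hom.app_eq_appLE (f := g), ← this]
  rfl

variable [IsIntegral X] [IsIntegral Y] (u : X ⟶ Y) [IsFinite u] [Surjective u]

theorem app_injective (W : Y.Opens) : Function.Injective (u.app W).hom := by
  intro a b h
  by_cases hW : genericPoint Y ∈ W
  · refine germ_injective_of_isIntegral Y (genericPoint Y) hW ((NormHomLib.ffMap u).hom.injective ?_)
    have := congrArg (X.presheaf.germ (u ⁻¹ᵁ W) _ (NormHomLib.gen_preimage u hW)) h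
    rw [← NormHomLib.ffMap_germ, ← NormHomLib.ffMap_germ] at this
    exact this
  · haveI : Subsingleton Γ(Y, W) := ⟨fun a b => TopCat.Presheaf.section_ext Y.sheaf W a b fun x hx =>
      absurd (((genericPoint_spec Y).specializes trivial).mem_open W.2 hx) hW⟩
    exact Subsingleton.elim a b

theorem comp_left_cancel {Z : Scheme.{u}} {g g' : Y ⟶ Z} (h : u ≫ g = u ≫ g') : g = g' := by
  refine ext_of_appLE (fun y => ?_) fun U T e e' => ?_
  · obtain ⟨x, rfl⟩ := u.surjective y
    rw [← Scheme.Hom.comp_apply, ← Scheme.Hom.comp_apply, h]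
  · ext s
    refine app_injective u T ?_
    have key : ∀ (q : X ⟶ Z) (_ : q = u ≫ g') (e₁ : u ⁻¹ᵁ T ≤ q ⁻¹ᵁ U),
        q.appLE U (u ⁻¹ᵁ T) e₁ = g'.appLE U T e' ≫ u.app T := by
      rintro q rfl e₁
      rw [Scheme.Hom.app_eq_appLE, Scheme.Hom.appLE_comp_appLE]
    have h1 := key _ h (fun x hx => e hx)
    rw [← Scheme.Hom.appLE_comp_appLE _ _ U T (u ⁻¹ᵁ T) e le_rfl, ← Scheme.Hom.app_eq_appLE] at h1
    exact congr($(h1).hom s)

variable [FrobSch.IsCharP X p] (n : ℕ) (hY : Pi1.IsNormalScheme Y)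
  (hpow : ∀ z : X.functionField, ∃ c, (NormHomLib.ffMap u).hom c = z ^ p ^ n)

include hY hpow in
theorem exists_root_affine [IsIntegralHom u] {V : Y.Opens} (hV : IsAffineOpen V) (a : Γ(X, u ⁻¹ᵁ V)) :
    ∃ b : Γ(Y, V), u.app V b = a ^ p ^ n := by
  rcases isEmpty_or_nonempty V with hempty | hne
  · haveI : Subsingleton Γ(X, u ⁻¹ᵁ V) := ⟨fun a b => TopCat.Presheaf.section_ext X.sheaf _ a b fun x hx =>
      (hempty.false ⟨u x, hx⟩).elim⟩
    exact ⟨0, Subsingleton.elim _ _⟩
  have hgV : genericPoint Y ∈ V := ((genericPoint_spec Y).mem_open_set_iff V.2).mpr (by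
    obtain ⟨⟨y, hy⟩⟩ := hne
    exact ⟨y, trivial, hy⟩)
  haveI : Nonempty ↥(u ⁻¹ᵁ V) := ⟨⟨_, NormHomLib.gen_preimage u hgV⟩⟩
  haveI : Nonempty ↥V := ⟨⟨_, hgV⟩⟩
  haveI := CurvQuotLib.isIntegrallyClosed_sections hY hV
  haveI := functionField_isFractionRing_of_isAffineOpen Y V hV
  haveI hint : (u.app V).hom.IsIntegral := IsIntegralHom.isIntegral_app u V hV
  obtain ⟨c, hc⟩ := hpow (X.presheaf.germ (u ⁻¹ᵁ V) _ (NormHomLib.gen_preimage u hgV) a)
  letI : Algebra Γ(Y, V) X.functionField :=
    ((X.presheaf.germ (u ⁻¹ᵁ V) _ (NormHomLib.gen_preimage u hgV)).hom.comp (u.app V).hom).toAlgebra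
  letI := NormHomLib.ffAlg u
  haveI : IsScalarTower Γ(Y, V) Y.functionField X.functionField :=
    .of_algebraMap_eq fun b => (NormHomLib.ffMap_germ u hgV b).symm
  have h1 : IsIntegral Γ(Y, V) ((X.presheaf.germ (u ⁻¹ᵁ V) _ (NormHomLib.gen_preimage u hgV)) a) := by
    obtain ⟨q, hq, hq'⟩ := hint a
    refine ⟨q, hq, ?_⟩
    show q.eval₂ ((X.presheaf.germ (u ⁻¹ᵁ V) _ (NormHomLib.gen_preimage u hgV)).hom.comp (u.app V).hom) _ = 0
    rw [← Polynomial.hom_eval₂, hq', map_zero]
  have h2 : IsIntegral Γ(Y, V) (algebraMap Y.functionField X.functionField c) := hc ▸ h1.pow _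
  rw [isIntegral_algebraMap_iff (algebraMap Y.functionField X.functionField).injective,
    IsIntegrallyClosed.isIntegral_iff] at h2
  obtain ⟨b, rfl⟩ := h2
  refine ⟨b, germ_injective_of_isIntegral X _ (NormHomLib.gen_preimage u hgV) ?_⟩
  rw [map_pow, ← hc]
  exact (NormHomLib.ffMap_germ u hgV b).symm

include hY hpow in
theorem exists_root [IsIntegralHom u] (W : Y.Opens) (a : Γ(X, u ⁻¹ᵁ W)) :
    ∃ b : Γ(Y, W), u.app W b = a ^ p ^ n := by
  classical
  let ι := {V : Y.affineOpens // V.1 ≤ W}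
  choose β hβ using fun V : ι => exists_root_affine p u n hY hpow V.1.2
    (X.presheaf.map (homOfLE (u.preimage_mono V.2)).op a)
  have hres : ∀ (V : ι) (T : Y.Opens) (hT : T ≤ V.1.1), u.app T (Y.presheaf.map (homOfLE hT).op (β V)) =
      (X.presheaf.map (homOfLE (u.preimage_mono (hT.trans V.2))).op a) ^ p ^ n := by
    intro V T hT
    refine (congr($(u.naturality (homOfLE hT).op).hom (β V))).trans ?_
    show X.presheaf.map _ (u.app _ (β V)) = _
    rw [hβ, map_pow, ← CommRingCat.comp_apply, ← X.presheaf.map_comp]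
    rfl
  obtain ⟨b, hb, -⟩ := Y.sheaf.existsUnique_gluing' (fun V : ι => V.1.1) W (fun V => homOfLE V.2)
    (fun x hx => by
      obtain ⟨_, ⟨V, hV, rfl⟩, hxV, hVW⟩ := Y.isBasis_affineOpens.exists_subset_of_mem_open hx W.2
      exact Opens.mem_iSup.2 ⟨⟨⟨V, hV⟩, hVW⟩, hxV⟩)
    β (fun V V' => by
      refine app_injective u _ ?_
      exact (hres V _ inf_le_left).trans (hres V' _ inf_le_right).symm)
  refine ⟨b, X.sheaf.eq_of_locally_eq' (fun V : ι => u ⁻¹ᵁ V.1.1) (u ⁻¹ᵁ W)
    (fun V => homOfLE (u.preimage_mono V.2)) (fun x hx => ?_) _ _ fun V => ?_⟩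
  · obtain ⟨_, ⟨V, hV, rfl⟩, hxV, hVW⟩ := Y.isBasis_affineOpens.exists_subset_of_mem_open (show u x ∈ W from hx) W.2
    exact Opens.mem_iSup.2 ⟨⟨⟨V, hV⟩, hVW⟩, hxV⟩
  · show X.presheaf.map _ (u.app W b) = X.presheaf.map _ (a ^ p ^ n)
    rw [map_pow, ← hβ V, ← hb V]
    exact (congr($(u.naturality (homOfLE V.2).op).hom b)).symm

variable (huniv : FlatMor.IsUnivHomeo u)

include hY hpow huniv in
/-- The morphism inverse to `u` up to a power of the Frobenius. -/
theorem exists_factor : ∃ w : Y ⟶ X, u ≫ w = frobN p X n := by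
  classical
  haveI := UnivHomeo.isIntegralHom huniv
  let e := (UnivHomeo.isHomeomorph huniv).homeomorph
  let base : Y.toTopCat ⟶ X.toTopCat := TopCat.ofHom ⟨e.symm, e.symm.continuous⟩
  have hsym : ∀ x : X, base (u x) = x := fun x => e.symm_apply_apply x
  have hle : ∀ W : X.Opens, u ⁻¹ᵁ ((Opens.map base).obj W) ≤ W := fun W x hx => by
    have : base (u x) ∈ W := hx
    rwa [hsym] at this
  choose r hr using fun (W : X.Opens) (a : Γ(X, W)) =>
    exists_root p u n hY hpow ((Opens.map base).obj W) (X.presheaf.map (homOfLE (hle W)).op a)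
  let c : X.presheaf ⟶ (TopCat.Presheaf.pushforward CommRingCat base).obj Y.presheaf :=
    { app := fun W => CommRingCat.ofHom
        { toFun := r W.unop
          map_one' := app_injective u _ (by rw [hr, map_one, one_pow, map_one])
          map_mul' := fun a b => app_injective u _ (by
            rw [hr, map_mul, mul_pow, ← hr, ← hr]; exact (map_mul _ _ _).symm)
          map_zero' := app_injective u _ (by
            rw [hr, map_zero, zero_pow (pow_ne_zero _ hp.out.ne_zero), map_zero])
          map_add' := fun a b => app_injective u _ (by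
            rw [hr, map_add]
            refine Eq.trans ?_ (map_add _ _ _).symm
            rw [hr, hr]
            rcases subsingleton_or_nontrivial Γ(X, u ⁻¹ᵁ ((Opens.map base).obj W.unop)) with hs | hs
            · exact Subsingleton.elim _ _
            · haveI : CharP Γ(X, u ⁻¹ᵁ ((Opens.map base).obj W.unop)) p :=
                (CharP.charP_iff_prime_eq_zero hp.out).2 (FrobSch.natCast_eq_zero_app X p _)
              exact add_pow_char_pow (R := Γ(X, u ⁻¹ᵁ ((Opens.map base).obj W.unop))) _ _ p n) }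
      naturality := fun W W' i => CommRingCat.hom_ext (RingHom.ext fun a => app_injective u _ (by
        show u.app _ (r W'.unop (X.presheaf.map i a)) =
          u.app _ (Y.presheaf.map ((Opens.map base).map i.unop).op (r W.unop a))
        rw [hr]
        refine Eq.trans ?_ (congr($(u.naturality ((Opens.map base).map i.unop).op).hom (r W.unop a))).symm
        show _ = X.presheaf.map _ (u.app _ (r W.unop a))
        rw [hr, map_pow, ← CommRingCat.comp_apply, ← CommRingCat.comp_apply, ← X.presheaf.map_comp,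
          ← X.presheaf.map_comp]
        rfl)) }
  let sh : Y.toSheafedSpace ⟶ X.toSheafedSpace := InducedCategory.homMk { base := base, c := c }
  have hloc : ∀ y : Y, IsLocalHom (sh.hom.stalkMap y).hom := by
    intro y
    constructor
    intro t ht
    obtain ⟨U, hyU, s, rfl⟩ := X.presheaf.exists_germ_eq (x := base y) t
    have h := PresheafedSpace.stalkMap_germ_apply sh.hom U y hyU s
    erw [h] at ht
    change IsUnit (Y.presheaf.germ ((Opens.map base).obj U) y hyU (r U s)) at ht
    have h1 : y ∈ Y.basicOpen (r U s) := (Y.mem_basicOpen (r U s) y hyU).2 ht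
    obtain ⟨x, rfl⟩ := u.surjective y
    have h2 : x ∈ X.basicOpen (u.app _ (r U s)) := by
      rw [← Scheme.preimage_basicOpen]
      exact h1
    rw [hr] at h2
    have h3 := (X.mem_basicOpen _ x hyU).1 h2
    rw [map_pow, isUnit_pow_iff (pow_ne_zero _ hp.out.ne_zero), TopCat.Presheaf.germ_res_apply] at h3
    have h4 : base (u x) ∈ X.basicOpen s := by
      rw [hsym]
      exact (X.mem_basicOpen s x (hle U hyU)).2 h3
    exact (X.mem_basicOpen s _ hyU).1 h4
  let w : Y ⟶ X := ⟨LocallyRingedSpace.homMk sh hloc⟩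
  refine ⟨w, ext_of_appLE (fun x => (hsym x).trans (frobN_apply p n x).symm) fun U T e₁ e₂ => ?_⟩
  ext s
  have hT : T ≤ U := fun x hx => by
    have : frobN p X n x ∈ U := e₂ hx
    rwa [frobN_apply] at this
  have e₃ : U ≤ frobN p X n ⁻¹ᵁ U := fun x hx => show frobN p X n x ∈ U by rwa [frobN_apply]
  have hL : (u ≫ w).appLE U T e₁ s = X.presheaf.map (homOfLE hT).op (s ^ p ^ n) := by
    rw [Scheme.Hom.comp_appLE, CommRingCat.comp_apply, Scheme.Hom.appLE, CommRingCat.comp_apply]
    refine (congrArg (X.presheaf.map _) (hr U s)).trans ?_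
    rw [map_pow, map_pow, ← CommRingCat.comp_apply, ← X.presheaf.map_comp]
    rfl
  have hR : (frobN p X n).appLE U T e₂ s = X.presheaf.map (homOfLE hT).op (s ^ p ^ n) := by
    rw [← frobN_appLE p n U e₃ s, ← CommRingCat.comp_apply, Scheme.Hom.appLE_map]
  exact hL.trans hR.symm

end Groth.Agent.FrobFactLib
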